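import Mathlib

/-!
Weakly regular sequences and lower triangular transformations.
-/

set_option autoImplicit false

universe u

open RingTheory.Sequence Function
open scoped Pointwise

namespace Groth.Agent.RegSeqTri

variable {R : Type u} [CommRing R]

theorem mem_cons_iff {M : Type u} [AddCommGroup M] [Module R M] (r : R) (rs : List R) (m : M) :
    m ∈ Ideal.ofList (r :: rs) • (⊤ : Submodule R M) ↔
      (Submodule.Quotient.mk m : QuotSMulTop r M) ∈ Ideal.ofList rs • (⊤ : Submodule R (QuotSMulTop r M)) := by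
  rw [Ideal.ofList_cons_smul]
  have h : (Ideal.ofList rs • (⊤ : Submodule R M)).map (r • (⊤ : Submodule R M)).mkQ = Ideal.ofList rs • ⊤ := by
    rw [Submodule.map_smul'', Submodule.map_top, Submodule.range_mkQ]
  rw [← h, ← Submodule.mkQ_apply, ← Submodule.mem_comap, Submodule.comap_map_mkQ]

theorem mem_nil_iff {M : Type u} [AddCommGroup M] [Module R M] (m : M) :
    m ∈ Ideal.ofList ([] : List R) • (⊤ : Submodule R M) ↔ m = 0 := by
  rw [Ideal.ofList_nil, Submodule.bot_smul, Submodule.mem_bot]

theorem map_injective {A B C : Type u} [AddCommGroup A] [Module R A] [AddCommGroup B] [Module R B] [AddCommGroup C]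
    [Module R C] {r : R} {f : A →ₗ[R] B} {g : B →ₗ[R] C} (hf : Injective f) (hfg : Exact f g) (hC : IsSMulRegular C r) :
    Injective (QuotSMulTop.map r f) := by
  refine (injective_iff_map_eq_zero _).2 fun x hx => ?_
  obtain ⟨a, rfl⟩ := Submodule.Quotient.mk_surjective _ x
  rw [QuotSMulTop.map_apply_mk, Submodule.Quotient.mk_eq_zero, Submodule.mem_smul_pointwise_iff_exists] at hx
  obtain ⟨b, -, hb⟩ := hx
  have hg : g b = 0 := hC (show r • g b = r • 0 by rw [← map_smul, hb, hfg.apply_apply_eq_zero, smul_zero])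
  obtain ⟨a', rfl⟩ := (hfg b).1 hg
  rw [Submodule.Quotient.mk_eq_zero, Submodule.mem_smul_pointwise_iff_exists]
  exact ⟨a', trivial, hf (by rw [map_smul, hb])⟩

/-- A pair of crossing short exact sequences with the same middle term. -/
theorem quad (L : List R) : ∀ (A B C : Type u) [AddCommGroup A] [Module R A] [AddCommGroup B] [Module R B]
    [AddCommGroup C] [Module R C] (f : A →ₗ[R] B) (f' : C →ₗ[R] B) (g : B →ₗ[R] C) (g' : B →ₗ[R] A),
    Injective f → Injective f' → Surjective g → Surjective g' → Exact f g → Exact f' g' → IsWeaklyRegular B L →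
    IsWeaklyRegular A L ∧ ∀ a, f a ∈ Ideal.ofList L • (⊤ : Submodule R B) → a ∈ Ideal.ofList L • (⊤ : Submodule R A) := by
  induction L with
  | nil =>
    intro A B C _ _ _ _ _ _ f f' g g' hf hf' hg hg' he he' _
    refine ⟨IsWeaklyRegular.nil R A, fun a ha => ?_⟩
    rw [mem_nil_iff] at ha ⊢
    exact hf (ha.trans (map_zero f).symm)
  | cons r L ih =>
    intro A B C _ _ _ _ _ _ f f' g g' hf hf' hg hg' he he' hB
    rw [isWeaklyRegular_cons_iff] at hB
    have hA : IsSMulRegular A r := hB.1.of_injective f hf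
    have hC : IsSMulRegular C r := hB.1.of_injective f' hf'
    obtain ⟨h1, h2⟩ := ih _ _ _ (QuotSMulTop.map r f) (QuotSMulTop.map r f') (QuotSMulTop.map r g) (QuotSMulTop.map r g')
      (map_injective hf he hC) (map_injective hf' he' hA) (QuotSMulTop.map_surjective r hg)
      (QuotSMulTop.map_surjective r hg') (QuotSMulTop.map_exact r he hg) (QuotSMulTop.map_exact r he' hg') hB.2
    refine ⟨(isWeaklyRegular_cons_iff _ _ _).2 ⟨hA, h1⟩, fun a ha => ?_⟩
    rw [mem_cons_iff] at ha ⊢
    exact h2 _ ha

/-- A regular sequence stays regular when its first element is replaced by a factor. -/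
theorem cons_of_mul {M : Type u} [AddCommGroup M] [Module R M] {a b : R} {L : List R}
    (h : IsWeaklyRegular M ((b * a) :: L)) :
    IsWeaklyRegular M (a :: L) ∧
      ∀ m : M, b • m ∈ Ideal.ofList ((b * a) :: L) • (⊤ : Submodule R M) → m ∈ Ideal.ofList (a :: L) • (⊤ : Submodule R M) := by
  rw [isWeaklyRegular_cons_iff] at h
  have ha : IsSMulRegular M a := IsSMulRegular.of_mul h.1
  have hb : IsSMulRegular M b := by
    have := h.1
    rw [mul_comm] at this
    exact IsSMulRegular.of_mul this
  let B := QuotSMulTop (b * a) M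
  have hle : ∀ (c d : R), c * d = b * a →
      (d • (⊤ : Submodule R M)) ≤ ((b * a) • (⊤ : Submodule R M)).comap (LinearMap.lsmul R M c) := by
    intro c d hcd x hx
    obtain ⟨y, -, rfl⟩ := (Submodule.mem_smul_pointwise_iff_exists _ _ _).1 hx
    exact (Submodule.mem_smul_pointwise_iff_exists _ _ _).2 ⟨y, trivial, by rw [LinearMap.lsmul_apply, smul_smul, hcd]⟩
  have hle' : ∀ (c d : R), c * d = b * a → ((b * a) • (⊤ : Submodule R M)) ≤ (d • (⊤ : Submodule R M)) := by
    intro c d hcd x hx
    obtain ⟨y, -, rfl⟩ := (Submodule.mem_smul_pointwise_iff_exists _ _ _).1 hx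
    exact (Submodule.mem_smul_pointwise_iff_exists _ _ _).2 ⟨c • y, trivial, by rw [smul_smul, mul_comm, hcd]⟩
  let f : QuotSMulTop a M →ₗ[R] B := Submodule.mapQ _ _ (LinearMap.lsmul R M b) (hle b a rfl)
  let f' : QuotSMulTop b M →ₗ[R] B := Submodule.mapQ _ _ (LinearMap.lsmul R M a) (hle a b (mul_comm a b))
  let g : B →ₗ[R] QuotSMulTop b M := Submodule.factor (hle' a b (mul_comm a b))
  let g' : B →ₗ[R] QuotSMulTop a M := Submodule.factor (hle' b a rfl)
  have key : ∀ (c d : R) (hcd : c * d = b * a), IsSMulRegular M c →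
      Injective (Submodule.mapQ _ _ (LinearMap.lsmul R M c) (hle c d hcd)) ∧
      Exact (Submodule.mapQ _ _ (LinearMap.lsmul R M c) (hle c d hcd))
        (Submodule.factor (hle' d c ((mul_comm d c).trans hcd))) := by
    intro c d hcd hc
    constructor
    · refine (injective_iff_map_eq_zero _).2 fun x hx => ?_
      obtain ⟨m, rfl⟩ := Submodule.Quotient.mk_surjective _ x
      rw [Submodule.mapQ_apply, Submodule.Quotient.mk_eq_zero, Submodule.mem_smul_pointwise_iff_exists] at hx
      obtain ⟨y, -, hy⟩ := hx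
      rw [Submodule.Quotient.mk_eq_zero, Submodule.mem_smul_pointwise_iff_exists]
      refine ⟨y, trivial, hc ?_⟩
      show c • d • y = c • m
      rw [smul_smul, hcd]
      exact hy
    · intro x
      obtain ⟨m, rfl⟩ := Submodule.Quotient.mk_surjective _ x
      constructor
      · intro hx
        obtain ⟨y, -, rfl⟩ := (Submodule.mem_smul_pointwise_iff_exists _ _ _).1 ((Submodule.Quotient.mk_eq_zero _).1 hx)
        exact ⟨Submodule.Quotient.mk y, rfl⟩
      · rintro ⟨z, hz⟩
        obtain ⟨y, rfl⟩ := Submodule.Quotient.mk_surjective _ z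
        rw [← hz]
        exact (Submodule.Quotient.mk_eq_zero _).2 ((Submodule.mem_smul_pointwise_iff_exists _ _ _).2 ⟨y, trivial, rfl⟩)
  obtain ⟨h1, h2⟩ := quad L _ _ _ f f' g g' (key b a rfl hb).1 (key a b (mul_comm a b) ha).1
    (Submodule.factor_surjective _) (Submodule.factor_surjective _) (key b a rfl hb).2 (key a b (mul_comm a b) ha).2 h.2
  refine ⟨(isWeaklyRegular_cons_iff _ _ _).2 ⟨ha, h1⟩, fun m hm => ?_⟩
  rw [mem_cons_iff] at hm ⊢
  exact h2 _ hm

/-- Sequences agreeing as operators give the same regularity and the same submodule. -/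
theorem congr_smul : ∀ (P : List (R × R)) (M : Type u) [AddCommGroup M] [Module R M],
    (∀ p ∈ P, ∀ m : M, p.1 • m = p.2 • m) → IsWeaklyRegular M (P.map Prod.fst) →
      IsWeaklyRegular M (P.map Prod.snd) ∧
      Ideal.ofList (P.map Prod.fst) • (⊤ : Submodule R M) = Ideal.ofList (P.map Prod.snd) • ⊤ := by
  intro P M _ _ hP hW
  have hsub : ∀ Q : List (R × R), Q ⊆ P →
      Ideal.ofList (Q.map Prod.fst) • (⊤ : Submodule R M) = Ideal.ofList (Q.map Prod.snd) • ⊤ := by
    intro Q hQ
    induction Q with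
    | nil => rfl
    | cons p Q ih =>
      rw [List.map_cons, List.map_cons, Ideal.ofList_cons_smul, Ideal.ofList_cons_smul,
        ih (fun x hx => hQ (List.mem_cons_of_mem _ hx))]
      congr 1
      ext x
      simp only [Submodule.mem_smul_pointwise_iff_exists, hP p (hQ (List.mem_cons_self ..))]
  refine ⟨⟨fun i hi => ?_⟩, hsub P (List.Subset.refl _)⟩
  simp only [List.length_map] at hi
  have h := hW.regular_mod_prev i (by simpa using hi)
  rw [← List.map_take, hsub _ (List.take_subset i P)] at h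
  rw [← List.map_take]
  simp only [List.getElem_map] at h ⊢
  intro x y hxy
  obtain ⟨x, rfl⟩ := Submodule.Quotient.mk_surjective _ x
  obtain ⟨y, rfl⟩ := Submodule.Quotient.mk_surjective _ y
  refine h ?_
  have hp := hP P[i] (List.getElem_mem hi)
  simp only [← Submodule.Quotient.mk_smul, hp] at hxy ⊢
  exact hxy

/-- Weakly regular `H x` for lower triangular `H` forces weakly regular `x`. -/
theorem of_triangular : ∀ (n : ℕ) (M : Type u) [AddCommGroup M] [Module R M] (x y : Fin n → R) (H : Matrix (Fin n) (Fin n) R),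
    (∀ i j : Fin n, i < j → H i j = 0) → H.mulVec x = y → IsWeaklyRegular M (List.ofFn y) →
    IsWeaklyRegular M (List.ofFn x) ∧ ∀ m : M, H.det • m ∈ Ideal.ofList (List.ofFn y) • (⊤ : Submodule R M) →
      m ∈ Ideal.ofList (List.ofFn x) • (⊤ : Submodule R M) := by
  intro n
  induction n with
  | zero =>
    intro M _ _ x y H _ _ hy
    simp only [List.ofFn_zero, Matrix.det_isEmpty, one_smul] at hy ⊢
    exact ⟨hy, fun m hm => hm⟩
  | succ n ih =>
    intro M _ _ x y H hH hxy hy
    have hy0 : y 0 = H 0 0 * x 0 := by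
      rw [← hxy, Matrix.mulVec, dotProduct, Finset.sum_eq_single 0]
      · intro j _ hj
        rw [hH 0 j (Fin.pos_iff_ne_zero.2 hj), zero_mul]
      · simp
    rw [List.ofFn_succ (f := y), hy0] at hy ⊢
    obtain ⟨h1, h2⟩ := cons_of_mul hy
    rw [isWeaklyRegular_cons_iff] at h1
    let H' := H.submatrix Fin.succ Fin.succ
    have hdet : H.det = H 0 0 * H'.det := by
      rw [Matrix.det_succ_row_zero, Finset.sum_eq_single 0]
      · simp [H']
      · intro j _ hj
        rw [hH 0 j (Fin.pos_iff_ne_zero.2 hj)]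
        simp
      · simp
    let P : List (R × R) := List.ofFn fun i : Fin n => (y i.succ, H'.mulVec (fun j => x j.succ) i)
    have hP : ∀ p ∈ P, ∀ m : QuotSMulTop (x 0) M, p.1 • m = p.2 • m := by
      intro p hp m
      obtain ⟨i, rfl⟩ := List.mem_ofFn.1 hp
      have : y i.succ = H i.succ 0 * x 0 + H'.mulVec (fun j => x j.succ) i := by
        rw [← hxy, Matrix.mulVec, dotProduct, Fin.sum_univ_succ]
        rfl
      have h0 : x 0 • m = 0 := Module.mem_annihilator.1 (QuotSMulTop.mem_annihilator M (x 0)) m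
      rw [this, add_smul, mul_smul, h0, smul_zero, zero_add]
    have hfst : P.map Prod.fst = List.ofFn fun i : Fin n => y i.succ := by simp [P, List.map_ofFn, Function.comp_def]
    have hsnd : P.map Prod.snd = List.ofFn (H'.mulVec fun j => x j.succ) := by simp [P, List.map_ofFn, Function.comp_def]
    obtain ⟨h3, h4⟩ := congr_smul P _ hP (hfst ▸ h1.2)
    rw [hfst, hsnd] at h4
    rw [hsnd] at h3
    obtain ⟨h5, h6⟩ := ih (QuotSMulTop (x 0) M) (fun j => x j.succ) _ H'
      (fun i j hij => hH i.succ j.succ (Fin.succ_lt_succ_iff.2 hij)) rfl h3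
    refine ⟨by rw [List.ofFn_succ, isWeaklyRegular_cons_iff]; exact ⟨h1.1, h5⟩, fun m hm => ?_⟩
    rw [List.ofFn_succ, mem_cons_iff]
    rw [hdet, mul_smul] at hm
    have h7 := h2 _ hm
    rw [mem_cons_iff, h4, Submodule.Quotient.mk_smul] at h7
    exact h6 _ h7

end Groth.Agent.RegSeqTri
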